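import Groth.Agent.GrLib8.HilbertFn
import Groth.Agent.GrLib8.StdField
import Mathlib.LinearAlgebra.Matrix.ToLinearEquiv
import Mathlib.LinearAlgebra.Matrix.NonsingularInverse
import Mathlib.Data.Nat.Choose.Cast

/-! Degree inequalities in a Hilbert–Burch resolution. -/

set_option autoImplicit false
set_option linter.unusedSectionVars false

universe u

open MvPolynomial DirectSum

namespace Groth.Agent.HBDeg

section Block

variable {R : Type u} [CommRing R] [IsDomain R] {t : ℕ} (P : Matrix (Fin (t + 1)) (Fin t) R) (i : Fin t)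

/-- The square block below a zero block. -/
def blk : Matrix {c : Fin t // i ≤ c} {c : Fin t // i ≤ c} R := fun r c => P r.1.succ c.1

theorem det_blk_ne_zero (hinj : ∀ v, P.mulVec v = 0 → v = 0)
    (hz : ∀ r : Fin (t + 1), r ≤ i.castSucc → ∀ c : Fin t, i ≤ c → P r c = 0) : (blk P i).det ≠ 0 := by
  classical
  intro h
  obtain ⟨v, hv, hv0⟩ := Matrix.exists_mulVec_eq_zero_iff.2 h
  let v' : Fin t → R := fun c => if hc : i ≤ c then v ⟨c, hc⟩ else 0
  have hsum : ∀ f : Fin t → R, ∑ c, f c * v' c = ∑ c : {c : Fin t // i ≤ c}, f c.1 * v c := by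
    intro f
    rw [← Finset.sum_subset (Finset.subset_univ (Finset.univ.filter fun c : Fin t => i ≤ c)) (fun c _ hc => by
      simp [v', show ¬ i ≤ c by simpa using hc]),
      Finset.sum_subtype (p := fun c : Fin t => i ≤ c) _ (by simp) fun c => f c * v' c]
    refine Finset.sum_congr rfl fun c _ => ?_
    simp [v', c.2]
  have h0 : P.mulVec v' = 0 := by
    funext r
    show ∑ c, P r c * v' c = 0
    rw [hsum]
    by_cases hr : r ≤ i.castSucc
    · exact Finset.sum_eq_zero fun c _ => by rw [hz r hr c.1 c.2, zero_mul]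
    · obtain ⟨r', rfl⟩ := Fin.exists_succ_eq.2 (show r ≠ 0 from fun h => hr (h ▸ Fin.zero_le _))
      have hr' : i ≤ r' := by
        simp only [Fin.le_def, Fin.val_castSucc, Fin.val_succ] at hr ⊢
        omega
      exact congrFun hv0 ⟨r', hr'⟩
  refine hv (funext fun c => ?_)
  have := congrFun (hinj v' h0) c.1
  simpa [v', c.2] using this

theorem false_of_zero_block_succ (hinj : ∀ v, P.mulVec v = 0 → v = 0)
    (hz : ∀ r : Fin (t + 1), r ≤ i.succ → ∀ c : Fin t, i ≤ c → P r c = 0) : False := by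
  classical
  refine det_blk_ne_zero P i hinj (fun r hr => hz r (hr.trans Fin.castSucc_lt_succ.le)) ?_
  exact Matrix.det_eq_zero_of_row_eq_zero ⟨i, le_rfl⟩ fun c => hz _ le_rfl c.1 c.2

theorem row_eq_zero_of_zero_block (hinj : ∀ v, P.mulVec v = 0 → v = 0)
    (hz : ∀ r : Fin (t + 1), r ≤ i.castSucc → ∀ c : Fin t, i ≤ c → P r c = 0)
    (g : Fin (t + 1) → R) (hg : ∀ c, ∑ r, g r * P r c = 0) : g i.succ = 0 := by
  classical
  have hd := det_blk_ne_zero P i hinj hz
  by_contra hne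
  refine hd (Matrix.exists_vecMul_eq_zero_iff.1 ⟨fun r => g r.1.succ, fun h => hne (congrFun h ⟨i, le_rfl⟩), ?_⟩)
  funext c
  show ∑ r : {c : Fin t // i ≤ c}, g r.1.succ * P r.1.succ c.1 = 0
  have h := hg c.1
  rw [Fin.sum_univ_succ, hz 0 (Fin.zero_le _) c.1 c.2, mul_zero, zero_add,
    ← Finset.sum_subset (Finset.subset_univ (Finset.univ.filter fun r : Fin t => i ≤ r)) (fun r _ hr => by
      rw [hz r.succ (by
        have hr' : ¬ i ≤ r := by simpa using hr
        simp only [Fin.le_def, Fin.val_castSucc, Fin.val_succ] at hr' ⊢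
        omega) c.1 c.2, mul_zero]),
    Finset.sum_subtype (p := fun r : Fin t => i ≤ r) _ (by simp) fun r => g r.succ * P r.succ c.1] at h
  exact h

end Block

variable {k : Type u} [Field k]

theorem constantCoeff_of_mem_irrel {p : MvPolynomial (Fin 3) k}
    (h : p ∈ (GrSyz.irrel (GrSyz.stdGr k (Fin 3))).toIdeal) : constantCoeff p = 0 := by
  refine RingHom.mem_ker.1 ((Ideal.span_le.2 ?_ : (GrSyz.irrel (GrSyz.stdGr k (Fin 3))).toIdeal ≤
    RingHom.ker (constantCoeff : MvPolynomial (Fin 3) k →+* k)) h)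
  rintro q ⟨n, hn, hq⟩
  rw [SetLike.mem_coe, RingHom.mem_ker, constantCoeff_eq]
  by_contra hne
  have := (GrSyz.mem_stdGr_iff _ _ n q).1 hq hne
  simp at this
  omega

theorem eq_zero_of_mem_irrel {n : ℤ} (hn : n ≤ 0) {p : MvPolynomial (Fin 3) k} (hp : p ∈ GrSyz.stdGr k (Fin 3) n)
    (h : p ∈ (GrSyz.irrel (GrSyz.stdGr k (Fin 3))).toIdeal) : p = 0 := by
  rcases hn.lt_or_eq with hn | rfl
  · exact GrLib8.stdGr_nonneg k _ n hn p hp
  · by_contra h0
    have hu := (GrLib8.isUnit_of_stdGr_zero k _ p hp h0).map (constantCoeff : MvPolynomial (Fin 3) k →+* k)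
    rw [constantCoeff_of_mem_irrel h] at hu
    exact not_isUnit_zero hu

variable {M : Type u} [AddCommGroup M] [Module k M] [Module (MvPolynomial (Fin 3) k) M]
  [IsScalarTower k (MvPolynomial (Fin 3) k) M]
  {ℳ : ℤ → Submodule k M} [Decomposition ℳ] [SetLike.GradedSMul (GrSyz.stdGr k (Fin 3)) ℳ]
  (F : GrSyz.FreeRes (GrSyz.stdGr k (Fin 3)) ℳ)
  (hF : F.IsMinimal (GrSyz.irrel (GrSyz.stdGr k (Fin 3))).toIdeal) (hlen : F.HasLengthLE 2)

include hlen in
theorem dLin_one_injective (v : Fin (F.rk 2) → MvPolynomial (Fin 3) k) (hv : (F.d 1).mulVec v = 0) : v = 0 := by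
  obtain ⟨w, rfl⟩ := (F.exact_succ 1).le (LinearMap.mem_ker.2 hv)
  funext j
  show ∑ c, F.d 2 j c * w c = 0
  have : IsEmpty (Fin (F.rk 3)) := by rw [hlen 3 (by omega)]; infer_instance
  exact Finset.sum_of_isEmpty _

theorem d_zero_mul_d_one (x : Fin (F.rk 0)) (c : Fin (F.rk 2)) :
    ∑ r, F.d 0 x r * F.d 1 r c = 0 := by
  classical
  have h : F.dLin 1 (Pi.single c 1) ∈ LinearMap.ker (Matrix.mulVecLin (F.d 0)) := (F.exact_succ 0).ge ⟨_, rfl⟩
  have h' := congrFun (LinearMap.mem_ker.1 h) x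
  simpa [Matrix.mulVec, dotProduct, Pi.single_apply] using h'

include hF in
theorem exists_d_zero_ne_zero (r : Fin (F.rk 1)) : ∃ x, F.d 0 x r ≠ 0 := by
  classical
  by_contra hall
  push Not at hall
  have hmem : (Pi.single r 1 : Fin (F.rk 1) → MvPolynomial (Fin 3) k) ∈ LinearMap.ker (Matrix.mulVecLin (F.d 0)) :=
    LinearMap.mem_ker.2 (funext fun x => by simp [Matrix.mulVec, dotProduct, Pi.single_apply, hall x])
  obtain ⟨v, hv⟩ := (F.exact_succ 0).le hmem
  have h1 : (1 : MvPolynomial (Fin 3) k) ∈ (GrSyz.irrel (GrSyz.stdGr k (Fin 3))).toIdeal := by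
    have := congrFun hv r
    rw [Pi.single_eq_same] at this
    rw [← this]
    show ∑ c, F.d 1 r c * v c ∈ _
    exact Ideal.sum_mem _ fun c _ => Ideal.mul_mem_right _ _ (hF 1 r c)
  have := constantCoeff_of_mem_irrel h1
  simp at this

include hF hlen in
theorem block_ineq (hrk : F.rk 0 = 1) {t : ℕ} (h1 : F.rk 1 = t + 1) (h2 : F.rk 2 = t)
    (ha : ∀ i j : Fin (t + 1), i ≤ j → F.deg 1 (Fin.cast h1.symm j) ≤ F.deg 1 (Fin.cast h1.symm i))
    (hb : ∀ i j : Fin t, i ≤ j → F.deg 2 (Fin.cast h2.symm j) ≤ F.deg 2 (Fin.cast h2.symm i)) (i : Fin t) :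
    1 ≤ F.deg 2 (Fin.cast h2.symm i) - F.deg 1 (Fin.cast h1.symm i.castSucc) ∧
      1 ≤ F.deg 2 (Fin.cast h2.symm i) - F.deg 1 (Fin.cast h1.symm i.succ) := by
  classical
  let P : Matrix (Fin (t + 1)) (Fin t) (MvPolynomial (Fin 3) k) := fun r c =>
    F.d 1 (Fin.cast h1.symm r) (Fin.cast h2.symm c)
  have hinj : ∀ v, P.mulVec v = 0 → v = 0 := by
    intro v hv
    have h := dLin_one_injective F hlen (fun c => v (Fin.cast h2 c)) (funext fun r => by
      have h' := congrFun hv (Fin.cast h1 r)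
      show ∑ c, F.d 1 r c * v (Fin.cast h2 c) = 0
      refine Eq.trans (Eq.symm ?_) h'
      exact Fintype.sum_equiv (finCongr h2.symm) _ _ fun c => by simp [P])
    funext c
    simpa using congrFun h (Fin.cast h2.symm c)
  have hz : ∀ j : Fin (t + 1), F.deg 2 (Fin.cast h2.symm i) ≤ F.deg 1 (Fin.cast h1.symm j) →
      ∀ r : Fin (t + 1), r ≤ j → ∀ c : Fin t, i ≤ c → P r c = 0 := fun j hj r hr c hc =>
    eq_zero_of_mem_irrel (n := F.deg 2 (Fin.cast h2.symm c) - F.deg 1 (Fin.cast h1.symm r))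
      (by have := hb i c hc; have := ha r j hr; omega) (F.d_mem 1 _ _) (hF 1 _ _)
  refine ⟨?_, ?_⟩
  · by_contra hlt
    obtain ⟨x, hx⟩ := exists_d_zero_ne_zero F hF (Fin.cast h1.symm i.succ)
    refine hx (row_eq_zero_of_zero_block P i hinj (hz i.castSucc (by omega))
      (fun r => F.d 0 x (Fin.cast h1.symm r)) fun c => ?_)
    refine Eq.trans ?_ (d_zero_mul_d_one F x (Fin.cast h2.symm c))
    exact Fintype.sum_equiv (finCongr h1.symm) _ _ fun r => by simp [P]
  · by_contra hlt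
    exact false_of_zero_block_succ P i hinj (hz i.succ (by omega))

theorem two_mul_choose (m : ℕ) : 2 * ((Nat.choose (2 + m) 2 : ℕ) : ℤ) = ((m : ℤ) + 2) * ((m : ℤ) + 1) := by
  induction m with
  | zero => simp
  | succ m ih =>
    rw [show 2 + (m + 1) = (2 + m) + 1 by omega, Nat.choose_succ_succ, Nat.choose_one_right]
    push_cast at ih ⊢
    linarith

theorem eq_zero_of_bounded (q2 q1 q0 N G : ℤ) (h : ∀ g, G ≤ g → |q2 * g ^ 2 + q1 * g + q0| ≤ N) :
    q2 = 0 ∧ q1 = 0 := by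
  have hN : 0 ≤ N := le_trans (abs_nonneg _) (h G le_rfl)
  obtain ⟨g, hgG, hgN⟩ : ∃ g, G ≤ g ∧ 2 * N + 1 ≤ g := ⟨max G (2 * N + 1), le_max_left _ _, le_max_right _ _⟩
  have e1 := abs_le.1 (h g hgG)
  have e2 := abs_le.1 (h (2 * g) (by omega))
  have e3 := abs_le.1 (h (3 * g) (by omega))
  have hq2 : q2 = 0 := by
    by_contra hne
    have hg1 : g ≤ g * g := le_mul_of_one_le_left (by omega) (by omega)
    rcases lt_or_gt_of_ne hne with hlt | hgt
    · have := mul_le_mul_of_nonneg_right (show q2 ≤ -1 by omega) (mul_self_nonneg g)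
      nlinarith
    · have := mul_le_mul_of_nonneg_right (show 1 ≤ q2 by omega) (mul_self_nonneg g)
      nlinarith
  refine ⟨hq2, ?_⟩
  subst hq2
  by_contra hne
  rcases lt_or_gt_of_ne hne with hlt | hgt
  · have := mul_le_mul_of_nonneg_right (show q1 ≤ -1 by omega) (show 0 ≤ g by omega)
    nlinarith
  · have := mul_le_mul_of_nonneg_right (show 1 ≤ q1 by omega) (show 0 ≤ g by omega)
    nlinarith

include hlen in
theorem bounded_hilbert (N : ℕ) (hN : ∀ g, Module.finrank k (ℳ g) ≤ N) :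
    (F.rk 0 : ℤ) - F.rk 1 + F.rk 2 = 0 ∧
      ∑ b, F.deg 0 b - ∑ b, F.deg 1 b + ∑ b, F.deg 2 b = 0 := by
  let G : ℤ := ∑ j ∈ Finset.range 3, ∑ b, |F.deg j b|
  have hG : ∀ j, j < 3 → ∀ b, F.deg j b ≤ G := fun j hj b =>
    (le_abs_self _).trans ((Finset.single_le_sum (fun b _ => abs_nonneg (F.deg j b)) (Finset.mem_univ b)).trans
      (Finset.single_le_sum (f := fun j => ∑ b, |F.deg j b|) (fun j _ => Finset.sum_nonneg fun b _ => abs_nonneg _)
        (Finset.mem_range.2 hj)))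
  have hterm : ∀ j, j < 3 → ∀ g, G ≤ g →
      2 * ∑ b : Fin (F.rk j), (if F.deg j b ≤ g then ((Nat.choose (2 + (g - F.deg j b).toNat) 2 : ℕ) : ℤ) else 0) =
        (F.rk j : ℤ) * g ^ 2 + (3 * (F.rk j : ℤ) - 2 * ∑ b, F.deg j b) * g +
          ∑ b, (F.deg j b ^ 2 - 3 * F.deg j b + 2) := by
    intro j hj g hg
    rw [Finset.mul_sum]
    have hb : ∀ b : Fin (F.rk j),
        2 * (if F.deg j b ≤ g then ((Nat.choose (2 + (g - F.deg j b).toNat) 2 : ℕ) : ℤ) else 0) =
          g ^ 2 + (3 * g - 2 * F.deg j b * g) + (F.deg j b ^ 2 - 3 * F.deg j b + 2) := fun b => by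
      rw [if_pos ((hG j hj b).trans hg), two_mul_choose, Int.toNat_of_nonneg (by linarith [hG j hj b])]
      ring
    rw [Finset.sum_congr rfl fun b _ => hb b, Finset.sum_add_distrib, Finset.sum_add_distrib, Finset.sum_sub_distrib]
    simp only [Finset.sum_const, Finset.card_univ, Fintype.card_fin, nsmul_eq_mul, sub_mul, Finset.mul_sum,
      Finset.sum_mul]
    ring
  obtain ⟨h2, h1⟩ := eq_zero_of_bounded ((F.rk 0 : ℤ) - F.rk 1 + F.rk 2)
    (3 * ((F.rk 0 : ℤ) - F.rk 1 + F.rk 2) - 2 * (∑ b, F.deg 0 b - ∑ b, F.deg 1 b + ∑ b, F.deg 2 b))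
    (∑ b, (F.deg 0 b ^ 2 - 3 * F.deg 0 b + 2) - ∑ b, (F.deg 1 b ^ 2 - 3 * F.deg 1 b + 2) +
      ∑ b, (F.deg 2 b ^ 2 - 3 * F.deg 2 b + 2)) (2 * N) G fun g hg => by
      have h := GrLib8.finrank_piece_eq F 2 hlen g
      rw [Finset.sum_range_succ, Finset.sum_range_succ, Finset.sum_range_succ, Finset.sum_range_zero] at h
      have e0 := hterm 0 (by omega) g hg
      have e1 := hterm 1 (by omega) g hg
      have e2 := hterm 2 (by omega) g hg
      have hb : (Module.finrank k (ℳ g) : ℤ) ≤ N := by exact_mod_cast hN g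
      rw [abs_le]
      norm_num at h
      constructor <;> linarith
  exact ⟨h2, by rw [h2] at h1; linarith⟩

variable (π : MvPolynomial (Fin 3) k →ₗ[MvPolynomial (Fin 3) k] M) (hπ : Function.Surjective π)
  (hπg : GrLC.IsGrHom (GrSyz.stdGr k (Fin 3)) ℳ π)

include hπg in
theorem isGrHomDeg_pi : GrLC.IsGrHomDeg (GrSyz.stdGr k (Fin 3)) ℳ π 0 := fun g m hm => by
  rw [add_zero]
  exact hπg g m hm

include hπ hπg in
theorem finrank_piece_le (Z : Finset (Fin 3 → k))
    (hZ : ∀ f : MvPolynomial (Fin 3) k, (∀ p ∈ Z, ∀ j : ℕ, eval p (homogeneousComponent j f) = 0) → π f = 0) (g : ℤ) :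
    Module.finrank k (ℳ g) ≤ Z.card := by
  classical
  let S := GrSyz.stdGr k (Fin 3) g
  haveI : Module.Finite k S := (GrLib8.stdGr_piece 2 g).1
  let A : S →ₗ[k] ℳ g := (π.restrictScalars k).restrict fun x hx => hπg g x hx
  have hA : Function.Surjective A := by
    rintro ⟨y, hy⟩
    obtain ⟨x, hx, hxy⟩ := GrLib8.exists_preimage_mem π (isGrHomDeg_pi π hπg) hy (hπ y)
    rw [sub_zero] at hx
    exact ⟨⟨x, hx⟩, Subtype.ext hxy⟩
  let E : S →ₗ[k] (Z → k) := LinearMap.pi fun p => (MvPolynomial.aeval p.1).toLinearMap.comp S.subtype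
  have hle : LinearMap.ker E ≤ LinearMap.ker A := by
    rintro ⟨x, hx⟩ h
    refine LinearMap.mem_ker.2 (Subtype.ext (hZ x fun p hp j => ?_))
    have hev : eval p x = 0 := by simpa [E] using congrFun (LinearMap.mem_ker.1 h) ⟨p, hp⟩
    rcases lt_or_ge g 0 with hg | hg
    · rw [GrLib8.stdGr_nonneg k _ g hg x hx, map_zero, map_zero]
    · obtain ⟨d, rfl⟩ := Int.eq_ofNat_of_zero_le hg
      have hx' : x ∈ homogeneousSubmodule (Fin 3) k d := GrLib8.stdGr_natCast (k := k) 3 d ▸ hx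
      rw [homogeneousComponent_of_mem hx']
      split_ifs
      · exact hev
      · exact map_zero _
  have h1 := E.finrank_range_add_finrank_ker
  have h2 := A.finrank_range_add_finrank_ker
  rw [LinearMap.range_eq_top.2 hA, finrank_top] at h2
  have h3 := Submodule.finrank_mono hle
  have h4 := (LinearMap.range E).finrank_le
  rw [Module.finrank_fintype_fun_eq_card, Fintype.card_coe] at h4
  omega

include hπ hπg in
theorem deg_zero_eq (hrk : F.rk 0 = 1) (h1π : π 1 ≠ 0) (b : Fin (F.rk 0)) : F.deg 0 b = 0 := by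
  classical
  haveI : Subsingleton (Fin (F.rk 0)) := by rw [hrk]; infer_instance
  obtain ⟨v, hv⟩ := F.aug_surjective (π 1)
  have hv' : v b • F.aug b = π 1 := by
    rw [← hv, Fintype.linearCombination_apply, Fintype.sum_subsingleton _ b]
  have hb0 : F.aug b ≠ 0 := fun h => h1π (by rw [← hv', h, smul_zero])
  have hge : 0 ≤ F.deg 0 b := by
    by_contra hlt
    obtain ⟨x, hx, hxy⟩ := GrLib8.exists_preimage_mem π (isGrHomDeg_pi π hπg) (F.aug_mem b) (hπ _)
    rw [sub_zero] at hx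
    exact hb0 (by rw [← hxy, GrLib8.stdGr_nonneg k _ _ (by omega) x hx, map_zero])
  by_contra hne
  refine h1π ?_
  have hmem : π 1 ∈ ℳ 0 := hπg 0 1 (SetLike.one_mem_graded _)
  have hcoe := congrArg (fun z : M => ((decompose ℳ z) 0 : M)) hv'
  rw [decompose_of_mem_same ℳ hmem] at hcoe
  rw [← hcoe]
  show ((decompose ℳ (v b • F.aug b)) 0 : M) = 0
  rw [GrLib8.decompose_smul_of_mem (GrSyz.stdGr k (Fin 3)) ℳ (F.aug_mem b) (v b) 0]
  rw [GrLib8.stdGr_nonneg k _ (0 - F.deg 0 b) (by omega) _ (SetLike.coe_mem _), zero_smul]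

end Groth.Agent.HBDeg
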